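import Groth.Agent.Lib.AlgSpRel14.Unram
import Groth.Agent.Lib.AlgSpRel14.Lqf
import Groth.Prelude.Def_AlgSpGpd
import Mathlib.CategoryTheory.Monoidal.Cartesian.Grp

/-!
# Loci on the base of a group space where the group has a property
-/

universe u

set_option backward.isDefEq.respectTransparency.types false

open CategoryTheory CategoryTheory.Limits AlgebraicGeometry AlgSp MonoidalCategory MonObj Topology
open CartesianMonoidalCategory hiding fst snd
open Groth.Agent.AlgSpace Groth.Agent.AlgSpDecent Groth.Agent.AlgSpRel14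

namespace Groth.Agent.GrpLocus14

variable {S : Scheme.{u}}

/-- Translation moves the first coordinate of the diagonal to the unit. -/
theorem exists_translation {B : Sp S} (G : Over B) [GrpObj G] :
    ∃ σ : pullback G.hom G.hom ⟶ pullback G.hom G.hom, IsIso σ ∧
      σ ≫ pullback.fst G.hom G.hom = pullback.fst G.hom G.hom ∧
      pullback.lift (𝟙 G.left) (G.hom ≫ η[G].left)
          (by simp only [Category.id_comp, Category.assoc, Over.w η[G]]; exact (Category.comp_id _).symm) ≫
        σ ≫ pullback.snd G.hom G.hom = 𝟙 G.left := by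
  let a : G ⊗ G ⟶ G := CartesianMonoidalCategory.fst G G
  let b : G ⊗ G ⟶ G := CartesianMonoidalCategory.snd G G
  let σ : G ⊗ G ⟶ G ⊗ G := CartesianMonoidalCategory.lift a (a * b)
  let τ : G ⊗ G ⟶ G ⊗ G := CartesianMonoidalCategory.lift a (a⁻¹ * b)
  have hσa : σ ≫ a = a := lift_fst _ _
  have hσb : σ ≫ b = a * b := lift_snd _ _
  have hτa : τ ≫ a = a := lift_fst _ _
  have hτb : τ ≫ b = a⁻¹ * b := lift_snd _ _
  have h₁ : σ ≫ τ = 𝟙 _ := by
    apply CartesianMonoidalCategory.hom_ext
    · change (σ ≫ τ) ≫ a = 𝟙 _ ≫ a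
      rw [Category.assoc, hτa, hσa, Category.id_comp]
    · change (σ ≫ τ) ≫ b = 𝟙 _ ≫ b
      rw [Category.assoc, hτb, MonObj.comp_mul, GrpObj.comp_inv, hσa, hσb, inv_mul_cancel_left,
        Category.id_comp]
  have h₂ : τ ≫ σ = 𝟙 _ := by
    apply CartesianMonoidalCategory.hom_ext
    · change (τ ≫ σ) ≫ a = 𝟙 _ ≫ a
      rw [Category.assoc, hσa, hτa, Category.id_comp]
    · change (τ ≫ σ) ≫ b = 𝟙 _ ≫ b
      rw [Category.assoc, hσb, MonObj.comp_mul, hτa, hτb, mul_inv_cancel_left, Category.id_comp]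
  refine ⟨σ.left, ⟨τ.left, congrArg (fun k : G ⊗ G ⟶ G ⊗ G => k.left) h₁,
    congrArg (fun k : G ⊗ G ⟶ G ⊗ G => k.left) h₂⟩, congrArg (fun k : G ⊗ G ⟶ G => k.left) hσa, ?_⟩
  let l : G ⟶ G ⊗ G := CartesianMonoidalCategory.lift (𝟙 G) (1 : G ⟶ G)
  have hl : pullback.lift (𝟙 G.left) (G.hom ≫ η[G].left)
      (by simp only [Category.id_comp, Category.assoc, Over.w η[G]]; exact (Category.comp_id _).symm) =
        l.left := pullback.hom_ext
    ((pullback.lift_fst _ _ _).trans
      (congrArg (fun f : G ⟶ G => f.left) (lift_fst (𝟙 G) (1 : G ⟶ G))).symm)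
    ((pullback.lift_snd _ _ _).trans
      (congrArg (fun f : G ⟶ G => f.left) (lift_snd (𝟙 G) (1 : G ⟶ G))).symm)
  rw [hl]
  have h : l ≫ σ ≫ b = 𝟙 G := by
    rw [hσb, MonObj.comp_mul]
    simp only [l, a, b, lift_fst, lift_snd]
    exact mul_one _
  exact congrArg (fun f : G ⟶ G => f.left) h

/-- Locus property: compatible with base change. -/
def BCInv (S : Scheme.{u}) (P : MorphismProperty Scheme.{u}) : Prop :=
  ∀ {X Y Y' X' : Sp S}, IsAlgSpace X → IsAlgSpace Y → IsAlgSpace Y' → ∀ {f : X ⟶ Y},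
    LocP @LocallyOfFiniteType f → ∀ {g : Y' ⟶ Y} {g' : X' ⟶ X} {f' : X' ⟶ Y'}, IsPullback g' f' f g →
      ∀ x' : Points X', HasAtMor (Near P) f (Points.map g' x') ↔ HasAtMor (Near P) f' x'

variable {P : MorphismProperty Scheme.{u}} [EtaleLocal P] [IsZariskiLocalAtSource P] (hP : BCInv S P)
  {B : Sp S} (hB : IsAlgSpace B) (G : Over B) [GrpObj G] (hG : IsAlgSpace G.left)
  (hlft : LocP @LocallyOfFiniteType G.hom)

omit [IsZariskiLocalAtSource P] [EtaleLocal P] in
include hP hB hG hlft in
theorem hasAtMor_iff_unit (x : Points G.left) :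
    HasAtMor (Near P) G.hom x ↔ HasAtMor (Near P) G.hom (Points.map η[G].left (Points.map G.hom x)) := by
  obtain ⟨σ, hσ, hσfst, hσl⟩ := exists_translation G
  have sq := (IsPullback.of_hasPullback G.hom G.hom).flip
  have hPb := isAlgSpace_pullback hB hG hG sq.flip
  have hlft' : LocP @LocallyOfFiniteType (pullback.fst G.hom G.hom) := locP_of_isPullback hG hB hG sq hlft
  have sqσ : IsPullback σ (pullback.fst G.hom G.hom) (pullback.fst G.hom G.hom) (𝟙 G.left) :=
    IsPullback.of_horiz_isIso ⟨by rw [hσfst, Category.comp_id]⟩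
  let l : G.left ⟶ pullback G.hom G.hom := pullback.lift (𝟙 G.left) (G.hom ≫ η[G].left)
    (by simp only [Category.id_comp, Category.assoc, Over.w η[G]]; exact (Category.comp_id _).symm)
  have h1 := hP hG hB hG hlft sq (Points.map l x)
  have h2 := hP hPb hG hG hlft' sqσ (Points.map l x)
  have h3 := hP hG hB hG hlft sq (Points.map σ (Points.map l x))
  rw [← Points.map_comp, ← Points.map_comp, hσl, Points.map_id] at h3
  rw [← Points.map_comp, show l ≫ pullback.snd G.hom G.hom = G.hom ≫ η[G].left from pullback.lift_snd _ _ _,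
    Points.map_comp] at h1
  rw [h3, h2, h1]

include hP hB hG hlft in
theorem locP_baseChange_iff {T R : Sp S} (hT : IsAlgSpace T) (g : T ⟶ B) {fst : R ⟶ G.left} {snd : R ⟶ T}
    (sq : IsPullback fst snd G.hom g) :
    LocP P snd ↔
      ∀ y : Points T, HasAtMor (Near P) G.hom (Points.map η[G].left (Points.map g y)) := by
  rw [locP_iff_forall_hasAtMor_near P (isAlgSpace_pullback hB hG hT sq) hT]
  constructor
  · intro h y
    let l : T ⟶ R := sq.lift (g ≫ η[G].left) (𝟙 T)
      (by rw [Category.assoc, Over.w η[G], Category.id_comp]; exact Category.comp_id _)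
    have h1 := (hP hG hB hT hlft sq (Points.map l y)).2 (h _)
    rwa [← Points.map_comp, sq.lift_fst, Points.map_comp] at h1
  · intro h z
    refine (hP hG hB hT hlft sq z).1 ((hasAtMor_iff_unit hP hB G hG hlft _).2 ?_)
    rw [← Points.map_comp fst G.hom, sq.w, Points.map_comp]
    exact h _

omit [IsZariskiLocalAtSource P] [EtaleLocal P] in
theorem exists_lift_of_forall_mem {X T : Sp S} {W : Set (Points X)} (g : T ⟶ X)
    (h : ∀ y, Points.map g y ∈ W) : ∃ k, k ≫ openSubι W = g := by
  have sq := IsPullback.of_hasPullback (openSubι W) g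
  have : IsIso (pullback.snd (openSubι W) g) := isIso_of_mono_of_lifts _ fun U x => by
    obtain ⟨l, hl⟩ := exists_lift_openSub (W := W) (x ≫ g) fun t => by
      rw [← Points.map_ofPt]; exact h _
    exact ⟨pullback.lift l x hl, pullback.lift_snd _ _ _⟩
  exact ⟨inv (pullback.snd (openSubι W) g) ≫ pullback.fst _ _, by
    rw [Category.assoc, pullback.condition, IsIso.inv_hom_id_assoc]⟩

include hP hB hG hlft in
/-- The largest open of the base over which the group has the property. -/
theorem exists_largest_open :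
    ∃ (W : Sp S) (w : W ⟶ B), RepWith @IsOpenImmersion w ∧
      (∀ (W' : Sp S) (w' : W' ⟶ B), RepWith @IsOpenImmersion w' →
        (LocP P (pullback.snd G.hom w') ↔ ∃ k : W' ⟶ W, k ≫ w = w')) ∧
      (∀ (B' : Sp S), IsAlgSpace B' → ∀ (f : B' ⟶ B) (W'' : Sp S) (w'' : W'' ⟶ B'),
        RepWith @IsOpenImmersion w'' →
        (LocP P (pullback.snd (pullback.snd G.hom f) w'') ↔
          ∃ k : W'' ⟶ pullback w f, k ≫ pullback.snd w f = w'')) := by
  let E : Set (Points B) := Points.map η[G].left ⁻¹' {x | HasAtMor (Near P) G.hom x}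
  have hE : IsOpen E := (isOpen_setOf_hasAtMor_near P hG hB G.hom).preimage (Points.continuous_map _)
  have key : ∀ {T R : Sp S}, IsAlgSpace T → ∀ (g : T ⟶ B) (fst : R ⟶ G.left) (snd : R ⟶ T),
      IsPullback fst snd G.hom g → (LocP P snd ↔ ∃ k, k ≫ openSubι E = g) := fun {T R} hT g fst snd sq => by
    rw [locP_baseChange_iff hP hB G hG hlft hT g sq]
    refine ⟨fun h => exists_lift_of_forall_mem (W := E) g h, ?_⟩
    rintro ⟨k, rfl⟩ y
    rw [Points.map_comp]
    exact (range_openSubι E).subset ⟨_, rfl⟩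
  refine ⟨openSub E, openSubι E, repWith_openSubι hE,
    fun W' w' hw' => key (isAlgSpace_of_representable hw'.1 hB) w' _ _ (IsPullback.of_hasPullback _ _), fun B' hB' f W'' w'' hw'' => ?_⟩
  have hW'' := isAlgSpace_of_representable hw''.1 hB'
  have sq := (IsPullback.of_hasPullback (pullback.snd G.hom f) w'').paste_horiz
    (IsPullback.of_hasPullback G.hom f)
  rw [key hW'' (w'' ≫ f) _ _ sq]
  constructor
  · rintro ⟨k, hk⟩
    exact ⟨pullback.lift k w'' hk, pullback.lift_snd _ _ _⟩
  · rintro ⟨k, rfl⟩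
    exact ⟨k ≫ pullback.fst _ _, by rw [Category.assoc, Category.assoc, pullback.condition]⟩

include hP hB hG hlft in
/-- A pseudo-torsor has the property when the group has it. -/
theorem locP_of_isPseudoTorsor {X : Over B} (hX : IsAlgSpace X.left) (a : GAction G X)
    (ha : a.IsPseudoTorsor) (hXt : LocP @LocallyOfFiniteType X.hom) (h : LocP P G.hom) : LocP P X.hom := by
  rw [locP_iff_forall_hasAtMor_near P hG hB] at h
  rw [locP_iff_forall_hasAtMor_near P hX hB]
  intro x
  let α : G ⊗ X ⟶ X ⊗ X := CartesianMonoidalCategory.lift a.act (CartesianMonoidalCategory.snd G X)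
  have : IsIso α := ha
  have : IsIso α.left := inferInstanceAs (IsIso ((Over.forget B).map α))
  let αl : pullback G.hom X.hom ⟶ pullback X.hom X.hom := α.left
  have : IsIso αl := inferInstanceAs (IsIso α.left)
  have hα : αl ≫ pullback.snd X.hom X.hom = pullback.snd G.hom X.hom :=
    congrArg (fun k : G ⊗ X ⟶ X => k.left) (lift_snd a.act (CartesianMonoidalCategory.snd G X))
  have sqG := IsPullback.of_hasPullback G.hom X.hom
  have sqX := IsPullback.of_hasPullback X.hom X.hom
  have hGX := isAlgSpace_pullback hB hG hX sqG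
  have hXX := isAlgSpace_pullback hB hX hX sqX
  have hlft' : LocP @LocallyOfFiniteType (pullback.snd X.hom X.hom) := locP_of_isPullback hX hB hX sqX hXt
  have sqα : IsPullback αl (pullback.snd G.hom X.hom) (pullback.snd X.hom X.hom) (𝟙 X.left) :=
    IsPullback.of_horiz_isIso ⟨by rw [hα, Category.comp_id]⟩
  let z := Points.map (pullback.diagonal X.hom) x
  have h1 := hP hX hB hX hXt sqX z
  have h2 := hP hXX hX hX hlft' sqα (Points.map (inv αl) z)
  rw [← Points.map_comp, IsIso.inv_hom_id, Points.map_id] at h2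
  rw [← Points.map_comp, pullback.diagonal_fst, Points.map_id] at h1
  exact h1.2 (h2.2 ((hP hG hB hX hlft sqG _).1 (h _)))

/-- Unramifiedness is compatible with base change. -/
theorem bcInv_unr (S : Scheme.{u}) : BCInv S Unr.{u} :=
  fun hX hY hY' _ hf _ _ _ sq x' => (hasAtMor_unr_baseChange hX hY hY' hf sq x').symm

/-- Local quasi-finiteness is compatible with base change. -/
theorem bcInv_lqf (S : Scheme.{u}) : BCInv S LqfLft.{u} :=
  fun hX hY hY' _ hf _ _ _ sq x' => hasAtMor_near_lqf_baseChange hX hY hY' hf sq x'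

instance : IsZariskiLocalAtSource Unr.{u} := inferInstanceAs (IsZariskiLocalAtSource (_ ⊓ _))

end Groth.Agent.GrpLocus14
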